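import Cfsg.Agent.ClassicalMax.DecOrth.Spread

/-!
An overgroup of the stabiliser of the decomposition containing an element not permuting the members is everything.
-/

set_option autoImplicit false
set_option linter.unusedSectionVars false
set_option linter.style.haveILetI false

namespace Cfsg.Agent.ClassicalMax.DecOrth

open Module QuadraticMap Cfsg.Agent.Classical Cfsg.Agent.Classical.Quad Cfsg.Agent.ClassicalMax.RootPlanes
open scoped commutatorElement

variable {F V : Type*} [Field F] [Finite F] [AddCommGroup V] [Module F V] [FiniteDimensional F V]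
  {Q : QuadraticForm F V} {t : ℕ} {D : Fin t → Submodule F V} {H : Subgroup (oG Q)}

/-- centre and parameter lie in one member -/
theorem same_member (h : Dec Q D) (hO : Over D H) (hno : ¬ eo Q ≤ H) {c d : V} (hcd : In H c d) (hc0 : c ≠ 0)
    (hd : d ∉ Submodule.span F ({c} : Set V)) : ∃ l, c ∈ D l ∧ d ∈ D l := by
  have star : ∀ {c d : V}, In H c d → ∀ i, c ∉ D i → pr h i d ∈ Submodule.span F ({pr h i c} : Set V) :=
    fun {c d} hcd i hc => by_contra fun hn => hno (good h hO hcd hc hn)
  by_cases hblock : ∃ l, c ∈ D l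
  · obtain ⟨l, hl⟩ := hblock
    refine ⟨l, hl, mem_of_pr h fun j hj => ?_⟩
    have := star hcd j fun hm => hc0 (eq_zero_of_two h (Ne.symm hj) hl hm)
    rw [pr_other h (Ne.symm hj) hl] at this
    simpa using this
  push Not at hblock
  exfalso
  have hlam : ∀ i, ∃ a : F, a • pr h i c = pr h i d := fun i => Submodule.mem_span_singleton.1 (star hcd i (hblock i))
  choose lam hlam using hlam
  have key : ∀ l n, n ≠ l → pr h l c ≠ 0 → pr h n c ≠ 0 → lam n = lam l - Q d := by
    intro l n hnl hl hn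
    have hu := pr_mem h l c
    set u := pr h l c with hudef
    obtain ⟨e, he, heq, hue⟩ := sing_pairing h hu hl
    have he0 : e ≠ 0 := fun e' => hue (by rw [e']; simp [polar])
    obtain ⟨a, ha, hea, haq⟩ := aniso_sing h he he0 heq
    have hdd := (In.block h hO he ha heq hea).conj (hcd.mem hcd.sing hcd.perp)
    set g := sO hcd.sing hcd.perp
    have hc' : ∀ y ∈ D l, polar Q y c = polar Q u y := fun y hy => by
      rw [polar_comm, hudef, pr_polar h l c hy]
    have hd' : ∀ y ∈ D l, polar Q y d = lam l * polar Q u y := fun y hy => by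
      rw [polar_comm, ← pr_polar h l d hy, ← hlam l, polar_smul_left, smul_eq_mul, hudef]
    have hgy : ∀ y ∈ D l, g.1 y = y + (lam l * polar Q u y) • c + (-polar Q u y) • d + (-(Q d * polar Q u y)) • c :=
      fun y hy => by rw [sO_apply, hd' y hy, hc' y hy]
    have hpr : ∀ y ∈ D l, pr h l (g.1 y) = y - (polar Q u y * Q d) • u := fun y hy => by
      rw [hgy y hy, map_add, map_add, map_add, map_smul, map_smul, map_smul, pr_same h hy, ← hlam l, ← hudef]
      module
    have hmem : g.1 e ∈ D l := by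
      by_contra hnm
      have h1 := star hdd l hnm
      rw [hpr e he, hpr a ha] at h1
      exact indep heq haq hea (by rwa [polar_comm]) _ _ h1
    have h2 : pr h n (g.1 e) = 0 := pr_other h (Ne.symm hnl) hmem
    rw [hgy e he, map_add, map_add, map_add, map_smul, map_smul, map_smul, pr_other h (Ne.symm hnl) he, ← hlam n,
      zero_add, smul_smul, ← add_smul, ← add_smul, smul_eq_zero] at h2
    have h3 := h2.resolve_right hn
    have h4 : polar Q u e * (lam l - lam n - Q d) = 0 := by linear_combination h3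
    linear_combination -((mul_eq_zero.1 h4).resolve_left hue)
  obtain ⟨l, hl⟩ : ∃ l, pr h l c ≠ 0 := by
    by_contra hn
    push Not at hn
    exact hc0 (ext_pr h fun j => by rw [hn j, map_zero])
  obtain ⟨n, hnl, hn⟩ := exists_pr_ne h (hblock l)
  have hQd : Q d = 0 := by
    have h1 := key l n hnl hl hn
    have h2 := key n l (Ne.symm hnl) hn hl
    have : 2 * Q d = 0 := by linear_combination h1 + h2
    exact (mul_eq_zero.1 this).resolve_left h.two
  refine hd (Submodule.mem_span_singleton.2 ⟨lam l, ext_pr h fun j => ?_⟩)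
  rw [map_smul, ← hlam j]
  by_cases hj : pr h j c = 0
  · rw [hj, smul_zero, smul_zero]
  by_cases hjl : j = l
  · rw [hjl]
  rw [key l j hjl hl hj, hQd, sub_zero]

/-- the main theorem on overgroups -/
theorem overgroup (h : Dec Q D) (hO : Over D H) {g : oG Q} (hg : g ∈ H)
    (hgS : ¬ ∃ σ : Equiv.Perm (Fin t), ∀ i, (D i).map g.1.toLinearMap = D (σ i)) : eo Q ≤ H := by
  by_contra hno
  refine hgS ?_
  have hto : ∀ j, ∃ l, ∀ y ∈ D j, g.1 y ∈ D l := by
    intro j
    have point : ∀ e ∈ D j, e ≠ 0 → Q e = 0 → ∃ l, g.1 e ∈ D l ∧ ∀ w ∈ D j, polar Q e w = 0 → g.1 w ∈ D l := by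
      intro e he he0 heq
      obtain ⟨a, ha, hea, haq⟩ := aniso_sing h he he0 heq
      have hge : g.1 e ≠ 0 := fun e' => he0 (g.1.map_eq_zero_iff.1 e')
      have ind : ∀ w, w ∉ Submodule.span F ({e} : Set V) → g.1 w ∉ Submodule.span F ({g.1 e} : Set V) := by
        intro w hw hm
        obtain ⟨r, hr⟩ := Submodule.mem_span_singleton.1 hm
        exact hw (Submodule.mem_span_singleton.2 ⟨r, g.1.injective (by rw [map_smul]; exact hr)⟩)
      have hae : a ∉ Submodule.span F ({e} : Set V) := fun hm => haq (by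
        obtain ⟨r, rfl⟩ := Submodule.mem_span_singleton.1 hm
        rw [map_smul', heq, mul_zero])
      obtain ⟨l, hl, -⟩ := same_member h hO hno ((In.block h hO he ha heq hea).conj hg) hge (ind a hae)
      refine ⟨l, hl, fun w hw hew => ?_⟩
      by_cases hwe : w ∈ Submodule.span F ({e} : Set V)
      · obtain ⟨r, rfl⟩ := Submodule.mem_span_singleton.1 hwe
        rw [map_smul]; exact (D l).smul_mem r hl
      obtain ⟨l', hl', hw'⟩ := same_member h hO hno ((In.block h hO he hw heq hew).conj hg) hge (ind w hwe)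
      obtain rfl : l = l' := by_contra fun hne => hge (eq_zero_of_two h hne hl hl')
      exact hw'
    obtain ⟨e, he, he0, heq⟩ := exists_sing h j
    obtain ⟨f, hf, hfq, hef⟩ := partner h he he0 heq
    have hf0 : f ≠ 0 := fun e' => by rw [e'] at hef; simp [polar] at hef
    obtain ⟨l, hle, hl⟩ := point e he he0 heq
    obtain ⟨l', hlf, hl'⟩ := point f hf hf0 hfq
    obtain ⟨w, hw, hew, hfw, hwq⟩ := aniso_two h he hf (hyp_span heq hfq hef)
    have hgw : g.1 w ≠ 0 := fun e' => hwq (by rw [g.1.map_eq_zero_iff.1 e', map_zero])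
    obtain rfl : l = l' := by_contra fun hne => hgw (eq_zero_of_two h hne (hl w hw hew) (hl' w hw hfw))
    refine ⟨l, fun y hy => ?_⟩
    have h1 := hl (y - polar Q e y • f) ((D j).sub_mem hy ((D j).smul_mem _ hf))
      (by rw [polar_sub_right, polar_smul_right, hef, smul_eq_mul, mul_one, sub_self])
    have h2 := (D l).add_mem h1 ((D l).smul_mem (polar Q e y) hlf)
    rwa [map_sub, map_smul, sub_add_cancel] at h2
  choose σ hσ using hto
  have hmap : ∀ i, (D i).map g.1.toLinearMap = D (σ i) := fun i => map_eq_of_le (h.eqdim _ _) (hσ i)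
  have hinj : Function.Injective σ := fun i i' e => by
    by_contra hne
    have : D i = D i' := Submodule.map_injective_of_injective (f := g.1.toLinearMap) g.1.injective (by rw [hmap, hmap, e])
    obtain ⟨x, hx, hx0, -⟩ := exists_sing h i
    exact hx0 (eq_zero_of_two h hne hx (this ▸ hx))
  exact ⟨Equiv.ofBijective σ hinj.bijective_of_finite, hmap⟩

theorem Maps.inv (h : Dec Q D) {g : oG Q} {σ : Equiv.Perm (Fin t)} (hg : Maps D g.1 σ) : Maps D (g⁻¹).1 σ.symm := by
  intro i x hx
  have hmap := map_eq_of_le (h.eqdim (σ.symm i) (σ (σ.symm i))) (hg (σ.symm i))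
  rw [Equiv.apply_symm_apply] at hmap
  rw [← hmap] at hx
  obtain ⟨y, hy, rfl⟩ := hx
  rw [LinearEquiv.coe_coe, oG_inv_apply]
  exact hy

/-- an isometry permuting the members in a prescribed way -/
theorem exists_perm (h : Dec Q D) (hiso : ∀ i j, ∃ ψ : D i ≃ₗ[F] D j, ∀ x : D i, Q (ψ x : V) = Q (x : V))
    (σ : Equiv.Perm (Fin t)) : ∃ g : oG Q, Maps D g.1 σ := by
  choose ψ hψ using hiso
  let f : V →ₗ[F] V := ∑ i, (D (σ i)).subtype ∘ₗ (ψ i (σ i)).toLinearMap ∘ₗ (pr h i).codRestrict (D i) (pr_mem h i)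
  have hf : ∀ x, f x = ∑ i, ((ψ i (σ i) ⟨pr h i x, pr_mem h i x⟩ : D (σ i)) : V) := fun x => by
    simp only [f, LinearMap.sum_apply, LinearMap.comp_apply]
    rfl
  have hQ : ∀ x, Q (f x) = Q x := fun x => by
    rw [hf, Q_sum_orth _ (fun i j hij => h.perp _ _ (fun e => hij (σ.injective e)) _ (Subtype.coe_prop _) _
      (Subtype.coe_prop _)), Q_eq_sum h x]
    exact Finset.sum_congr rfl fun i _ => hψ i (σ i) _
  have hinj : Function.Injective f := fun x y e => sub_eq_zero.1 (eq_zero_of_polar h.nd fun z => by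
    have h0 : f (x - y) = 0 := by rw [map_sub, e, sub_self]
    have : polar Q (x - y) z = polar Q (f (x - y)) (f z) := by simp only [polar, ← map_add, hQ]
    rw [this, h0]; simp [polar])
  refine ⟨⟨LinearEquiv.ofInjectiveEndo f hinj, hQ⟩, fun i x hx => ?_⟩
  show f x ∈ D (σ i)
  rw [hf, Finset.sum_eq_single i (fun j _ hj => ?_) (fun hn => absurd (Finset.mem_univ i) hn)]
  · exact Subtype.coe_prop _
  · have : (⟨pr h j x, pr_mem h j x⟩ : D j) = 0 := Subtype.ext (pr_other h (Ne.symm hj) hx)
    rw [this, map_zero]; rfl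

/-- three-cycles of members in the derived group -/
theorem exists_cycle (h : Dec Q D) (hiso : ∀ i j, ∃ ψ : D i ≃ₗ[F] D j, ∀ x : D i, Q (ψ x : V) = Q (x : V))
    {a b c : Fin t} (hab : a ≠ b) (hbc : b ≠ c) (hac : a ≠ c) :
    ∃ g ∈ commutator (oG Q), ∃ σ : Equiv.Perm (Fin t), Maps D g.1 σ ∧ σ a = b ∧ σ b = c ∧ σ c = a := by
  obtain ⟨s, hs⟩ := exists_perm h hiso (Equiv.swap a c)
  obtain ⟨u, hu⟩ := exists_perm h hiso (Equiv.swap c b)
  refine ⟨⁅s, u⁆, Subgroup.commutator_mem_commutator (Subgroup.mem_top _) (Subgroup.mem_top _),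
    (Equiv.swap c b).symm.trans ((Equiv.swap a c).symm.trans ((Equiv.swap c b).trans (Equiv.swap a c))),
    fun i x hx => ?_, ?_, ?_, ?_⟩
  · rw [commutatorElement_def]
    simp only [oG_mul_apply, Equiv.trans_apply]
    exact hs _ _ (hu _ _ (hs.inv h _ _ (hu.inv h _ _ hx)))
  all_goals simp [Equiv.swap_apply_def, hab, hbc, hac, hab.symm, hbc.symm, hac.symm]

end Cfsg.Agent.ClassicalMax.DecOrth
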