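import Cfsg.Agent.ClassicalMax.DecOrth.Basic

/-!
Generation of the orthogonal group once an overgroup of the decomposition stabiliser has a root group joining
two members.
-/

set_option autoImplicit false
set_option linter.unusedSectionVars false
set_option linter.style.haveILetI false

namespace Cfsg.Agent.ClassicalMax.DecOrth

open Module QuadraticMap Cfsg.Agent.Classical Cfsg.Agent.Classical.Quad Cfsg.Agent.ClassicalMax.RootPlanes

variable {F V : Type*} [Field F] [Finite F] [AddCommGroup V] [Module F V] [FiniteDimensional F V]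
  {Q : QuadraticForm F V} {t : ℕ} {D : Fin t → Submodule F V} {H : Subgroup (oG Q)}

theorem perp_of_pr (h : Dec Q D) {i : Fin t} {c : V} (hc : pr h i c = 0) : ∀ z ∈ D i, polar Q c z = 0 :=
  fun z hz => by rw [← pr_polar h i c hz, hc]; simp [polar]

/-- a parameter meeting a member perpendicular to the centre brings the whole member -/
theorem fill (h : Dec Q D) (hO : Over D H) {i : Fin t} {c d : V} (hcd : In H c d) (hc : pr h i c = 0)
    (hd : pr h i d ≠ 0) : ∀ y ∈ D i, In H c y := by
  have hperp := perp_of_pr h hc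
  -- a singular vector with non-zero product brings its perp in the member
  have key : ∀ f ∈ D i, Q f = 0 → polar Q d f ≠ 0 → ∀ x ∈ D i, polar Q f x = 0 → In H c x := by
    intro f hf hfq hdf x hx hfx
    have hf0 : f ≠ 0 := fun e => hdf (by rw [e]; simp [polar])
    obtain ⟨a, ha, hfa, haq⟩ := aniso_sing h hf hf0 hfq
    have h1 := hcd.siegel h hO hf ha hfq hfa (hperp f hf) (hperp a ha)
    have h2 := hcd.siegel h hO hf ((D i).smul_mem (-1) ha) hfq (polar_perp_smul hfa _) (hperp f hf)
      (hperp _ ((D i).smul_mem _ ha))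
    have h3 : In H c f := by
      have := h1.add h2
      rw [map_smul', polar_smul_right, smul_eq_mul] at this
      have e : polar Q d a • f - polar Q d f • a - (Q a * polar Q d f) • f +
          ((-1 * polar Q d a) • f - polar Q d f • ((-1 : F) • a) - (-1 * -1 * Q a * polar Q d f) • f) =
          (-(2 * Q a * polar Q d f)) • f := by module
      rw [e] at this
      exact this.of_smul (neg_ne_zero.2 (mul_ne_zero (mul_ne_zero h.two haq) hdf))
    have h4 := hcd.siegel h hO hf hx hfq hfx (hperp f hf) (hperp x hx)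
    have h5 := (h3.smul (polar Q d x - Q x * polar Q d f)).sub h4
    have e : (polar Q d x - Q x * polar Q d f) • f -
        (polar Q d x • f - polar Q d f • x - (Q x * polar Q d f) • f) = polar Q d f • x := by module
    rw [e] at h5
    exact h5.of_smul hdf
  obtain ⟨f, hf, hfq, hdf⟩ := sing_pairing h (pr_mem h i d) hd
  rw [pr_polar h i d hf] at hdf
  have hf0 : f ≠ 0 := fun e => hdf (by rw [e]; simp [polar])
  obtain ⟨g, hg, hgq, hfg⟩ := partner h hf hf0 hfq
  obtain ⟨g₁, hg₁, hg₁q, hfg₁, hdg⟩ :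
      ∃ g₁ ∈ D i, Q g₁ = 0 ∧ polar Q f g₁ = 1 ∧ polar Q d g₁ ≠ 0 := by
    by_cases hdg : polar Q d g = 0
    swap
    · exact ⟨g, hg, hgq, hfg, hdg⟩
    obtain ⟨w, hw, hfw, hgw, hwq⟩ := aniso_two h hf hg (hyp_span hfq hgq hfg)
    have mk : ∀ c : F, Q (g + c • w + (-(c * c * Q w)) • f) = 0 ∧ polar Q f (g + c • w + (-(c * c * Q w)) • f) = 1 := by
      intro c
      constructor
      · simp only [map_add', map_smul', polar_add_left, polar_smul_left, polar_smul_right, hgq, hfq, hgw,
          polar_comm Q g f, hfg, polar_comm Q w f, hfw, smul_eq_mul]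
        ring
      · simp only [polar_add_right, polar_smul_right, hfg, hfw, polar_self', hfq, smul_eq_mul]
        ring
    by_cases h1 : polar Q d (g + (1 : F) • w + (-((1 : F) * 1 * Q w)) • f) = 0
    swap
    · exact ⟨_, (D i).add_mem ((D i).add_mem hg ((D i).smul_mem _ hw)) ((D i).smul_mem _ hf), (mk 1).1, (mk 1).2, h1⟩
    refine ⟨_, (D i).add_mem ((D i).add_mem hg ((D i).smul_mem _ hw)) ((D i).smul_mem _ hf), (mk (-1)).1, (mk (-1)).2,
      fun h2 => ?_⟩
    simp only [polar_add_right, polar_smul_right, smul_eq_mul, hdg] at h1 h2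
    refine mul_ne_zero (mul_ne_zero h.two hwq) hdf ?_
    linear_combination -h1 - h2
  intro y hy
  set ρ := polar Q f y
  have h1 : In H c (y - ρ • g₁) := key f hf hfq hdf _ ((D i).sub_mem hy ((D i).smul_mem _ hg₁))
    (by rw [polar_sub_right, polar_smul_right, hfg₁, smul_eq_mul, mul_one, sub_self])
  have h2 : In H c g₁ := key g₁ hg₁ hg₁q hdg g₁ hg₁ (by rw [polar_self', hg₁q, mul_zero])
  have h3 := h1.add (h2.smul ρ)
  rwa [sub_add_cancel] at h3

/-- every singular vector of member `i` has the whole of member `j` among its parameters -/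
def Linked (D : Fin t → Submodule F V) (H : Subgroup (oG Q)) (i j : Fin t) : Prop :=
  ∀ e ∈ D i, Q e = 0 → ∀ y ∈ D j, In H e y

theorem Linked.move (h : Dec Q D) {i j : Fin t} (hl : Linked D H i j) {g : oG Q} (hg : g ∈ H)
    {σ : Equiv.Perm (Fin t)} (hσ : Maps D g.1 σ) : Linked D H (σ i) (σ j) := by
  intro e he heq y hy
  have hmap : ∀ l, (D l).map g.1.toLinearMap = D (σ l) := fun l => map_eq_of_le (h.eqdim _ _) (hσ l)
  rw [← hmap] at he hy
  obtain ⟨e₀, he₀, rfl⟩ := he
  obtain ⟨y₀, hy₀, rfl⟩ := hy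
  exact (hl e₀ he₀ (by rw [← g.2]; exact heq) y₀ hy₀).conj hg

theorem finish_linked (h : Dec Q D) (hO : Over D H) {n m : Fin t} (hnm : n ≠ m) (h1 : Linked D H n m)
    (h2 : Linked D H m n) : eo Q ≤ H := by
  let R : Fin t → Fin t → Prop := fun i j => Linked D H i j ∧ Linked D H j i
  have hsym : ∀ {i j}, R i j → R j i := fun h => ⟨h.2, h.1⟩
  have tri : ∀ a b p, R a b → a ≠ b → p ≠ a → p ≠ b → R b p ∧ R p a := by
    intro a b p hab hne hpa hpb
    obtain ⟨g, hg, σ, hσ, e1, e2, e3⟩ := hO.cyc a b p hne (Ne.symm hpb) (Ne.symm hpa)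
    have f1 : R b p := by
      have := And.intro (hab.1.move h hg hσ) (hab.2.move h hg hσ)
      rwa [e1, e2] at this
    have f2 : R p a := by
      have := And.intro (f1.1.move h hg hσ) (f1.2.move h hg hσ)
      rwa [e2, e3] at this
    exact ⟨f1, f2⟩
  have hn : ∀ p, p ≠ n → R n p := fun p hp => by
    by_cases hpm : p = m
    · subst hpm; exact ⟨h1, h2⟩
    exact hsym (tri n m p ⟨h1, h2⟩ hnm hp hpm).2
  have hall : ∀ i j, i ≠ j → R i j := fun i j hij => by
    by_cases hi : i = n
    · subst hi; exact hn j (Ne.symm hij)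
    by_cases hj : j = n
    · subst hj; exact hsym (hn i hi)
    exact (tri n i j (hn i hi) (Ne.symm hi) hj (Ne.symm hij)).1
  obtain ⟨e, he, he0, heq⟩ := exists_sing h n
  obtain ⟨f, hf, hfq, hef⟩ := partner h he he0 heq
  have full : ∀ e ∈ D n, Q e = 0 → Full H e := by
    intro e he heq
    refine full_of_tS heq fun w hw => ?_
    rw [← sum_pr h w]
    refine Submodule.sum_mem _ fun j _ => ?_
    have hin : In H e (pr h j w) := by
      by_cases hj : j = n
      · subst hj
        exact In.block h hO he (pr_mem h j w) heq (by rw [polar_comm, pr_polar h j w he, polar_comm, hw])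
      · exact (hall n j (Ne.symm hj)).1 e he heq _ (pr_mem h j w)
    exact hin.2
  refine eo_le h.nd ?_ (full e he heq) (full f hf hfq) (by rw [hef]; exact one_ne_zero)
  have := h.dim n
  have := Submodule.finrank_le (D n)
  omega

/-- a singular parameter meeting a member perpendicular to the centre -/
theorem long (h : Dec Q D) (hO : Over D H) {i : Fin t} {b a : V} (hba : In H b a) (hb0 : b ≠ 0)
    (hb : pr h i b = 0) (ha : pr h i a ≠ 0) : eo Q ≤ H := by
  obtain ⟨m, hm⟩ : ∃ m, pr h m b ≠ 0 := by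
    by_contra hn
    push Not at hn
    exact hb0 (ext_pr h fun j => by rw [hn j, map_zero])
  have hmi : m ≠ i := fun e => hm (e ▸ hb)
  have hDi := fill h hO hba hb ha
  have l1 : Linked D H i m := fun f hf hfq =>
    fill h hO ((hDi f hf).symm hfq) (pr_other h hmi.symm hf) hm
  obtain ⟨f₀, hf₀, hf₀0, hf₀q⟩ := exists_sing h i
  have l2 : Linked D H m i := fun e he heq =>
    fill h hO ((l1 f₀ hf₀ hf₀q e he).symm heq) (pr_other h hmi he) (by rwa [pr_same h hf₀])
  exact finish_linked h hO hmi.symm l1 l2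

/-- a singular parameter inside a member, the centre outside it -/
theorem sing_param (h : Dec Q D) (hO : Over D H) {i : Fin t} {c f : V} (hcf : In H c f) (hf : f ∈ D i)
    (hf0 : f ≠ 0) (hfq : Q f = 0) (hc : c ∉ D i) : eo Q ≤ H := by
  obtain ⟨m, hmi, hm⟩ := exists_pr_ne h hc
  exact long h hO (hcf.symm hfq) hf0 (pr_other h (Ne.symm hmi) hf) hm

end Cfsg.Agent.ClassicalMax.DecOrth
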