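import Cfsg.Agent.ClassicalMax.RootTwo

/-!
Orthogonal decompositions into at least three isometric members of dimension at least three in odd characteristic:
projections to the members, vectors inside a member, and the moves available in an overgroup of the stabiliser.
-/

set_option autoImplicit false
set_option linter.unusedSectionVars false
set_option linter.style.haveILetI false

namespace Cfsg.Agent.ClassicalMax.DecOrth

open Module QuadraticMap Cfsg.Agent.Classical Cfsg.Agent.Classical.Quad Cfsg.Agent.ClassicalMax.RootPlanes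
open scoped commutatorElement

variable {F V : Type*} [Field F] [Finite F] [AddCommGroup V] [Module F V] [FiniteDimensional F V]
  {Q : QuadraticForm F V} {t : ℕ} {D : Fin t → Submodule F V} {H : Subgroup (oG Q)}

/-- the standing hypotheses on the decomposition -/
structure Dec (Q : QuadraticForm F V) (D : Fin t → Submodule F V) : Prop where
  two : (2 : F) ≠ 0
  nd : (polarBilin Q).Nondegenerate
  top : iSup D = ⊤
  perp : ∀ i j, i ≠ j → ∀ x ∈ D i, ∀ y ∈ D j, polar Q x y = 0
  ndD : ∀ i, NdOn Q (D i)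
  dim : ∀ i, 3 ≤ finrank F (D i)
  eqdim : ∀ i j, finrank F (D i) = finrank F (D j)
  three : 3 ≤ t
  size : 5 ≤ Nat.card F ∨ ∀ i, 5 ≤ finrank F (D i)

/-- `g` carries the members as the permutation `σ` -/
def Maps (D : Fin t → Submodule F V) (g : V ≃ₗ[F] V) (σ : Equiv.Perm (Fin t)) : Prop :=
  ∀ i, ∀ x ∈ D i, g x ∈ D (σ i)

/-- the standing hypotheses on the overgroup -/
structure Over (D : Fin t → Submodule F V) (H : Subgroup (oG Q)) : Prop where
  blocks : ∀ g ∈ commutator (oG Q), (∀ i, ∀ x ∈ D i, g.1 x ∈ D i) → g ∈ H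
  cyc : ∀ a b c : Fin t, a ≠ b → b ≠ c → a ≠ c → ∃ g ∈ H, ∃ σ : Equiv.Perm (Fin t),
    Maps D g.1 σ ∧ σ a = b ∧ σ b = c ∧ σ c = a

/-- the orthogonal projection onto a member -/
noncomputable def pr (h : Dec Q D) (i : Fin t) : V →ₗ[F] V :=
  (D i).subtype ∘ₗ (LinearMap.BilinForm.toDual (polarBilin (Q.comp (D i).subtype)) (h.ndD i).comp).symm.toLinearMap ∘ₗ
    (LinearMap.lcomp F F (D i).subtype).comp (polarBilin Q)

theorem pr_mem (h : Dec Q D) (i : Fin t) (v : V) : pr h i v ∈ D i := Subtype.coe_prop _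

theorem pr_polar (h : Dec Q D) (i : Fin t) (v : V) {z : V} (hz : z ∈ D i) :
    polar Q (pr h i v) z = polar Q v z := by
  have := LinearMap.BilinForm.apply_toDual_symm_apply (hB := (h.ndD i).comp)
    (f := (LinearMap.lcomp F F (D i).subtype) (polarBilin Q v)) ⟨z, hz⟩
  rw [polarBilin_apply_apply] at this
  exact this

theorem pr_unique (h : Dec Q D) {i : Fin t} {v a : V} (ha : a ∈ D i) (hv : ∀ z ∈ D i, polar Q v z = polar Q a z) :
    pr h i v = a :=
  sub_eq_zero.1 (h.ndD i _ ((D i).sub_mem (pr_mem h i v) ha) fun z hz => by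
    rw [polar_sub_left, pr_polar h i v hz, hv z hz, sub_self])

theorem pr_same (h : Dec Q D) {i : Fin t} {x : V} (hx : x ∈ D i) : pr h i x = x := pr_unique h hx fun _ _ => rfl

theorem pr_other (h : Dec Q D) {i j : Fin t} (hij : j ≠ i) {x : V} (hx : x ∈ D j) : pr h i x = 0 :=
  pr_unique h (zero_mem _) fun z hz => by rw [h.perp j i hij x hx z hz]; simp [polar]

theorem ext_pr (h : Dec Q D) {x y : V} (e : ∀ i, pr h i x = pr h i y) : x = y :=
  sub_eq_zero.1 (eq_zero_of_polar h.nd fun z => by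
    have : (⊤ : Submodule F V) ≤ LinearMap.ker (polarBilin Q (x - y)) := h.top ▸ iSup_le fun i w hw => by
      rw [LinearMap.mem_ker, polarBilin_apply_apply, polar_sub_left, ← pr_polar h i x hw, e i, pr_polar h i y hw,
        sub_self]
    simpa using this (Submodule.mem_top (x := z)))

theorem sum_pr (h : Dec Q D) (x : V) : ∑ i, pr h i x = x := ext_pr h fun j => by
  rw [map_sum, Finset.sum_eq_single j (fun i _ hij => pr_other h hij (pr_mem h i x))
    (fun hn => absurd (Finset.mem_univ j) hn), pr_same h (pr_mem h j x)]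

theorem Q_sum_orth (f : Fin t → V) (hp : ∀ i j, i ≠ j → polar Q (f i) (f j) = 0) (s : Finset (Fin t)) :
    Q (∑ i ∈ s, f i) = ∑ i ∈ s, Q (f i) := by
  classical
  induction s using Finset.induction_on with
  | empty => simp
  | @insert a s ha ih =>
    rw [Finset.sum_insert ha, Finset.sum_insert ha, map_add', ih]
    have : polar Q (f a) (∑ i ∈ s, f i) = 0 := by
      rw [← polarBilin_apply_apply, map_sum]
      exact Finset.sum_eq_zero fun i hi => hp a i fun e => ha (e ▸ hi)
    rw [this, add_zero]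

theorem Q_eq_sum (h : Dec Q D) (x : V) : Q x = ∑ i, Q (pr h i x) := by
  conv_lhs => rw [← sum_pr h x]
  exact Q_sum_orth _ (fun i j hij => h.perp i j hij _ (pr_mem h i x) _ (pr_mem h j x)) _

theorem pr_polar_self (h : Dec Q D) (i : Fin t) (c : V) : polar Q c (pr h i c) = 2 * Q (pr h i c) := by
  rw [← pr_polar h i c (pr_mem h i c), polar_self']

theorem exists_other_aniso (h : Dec Q D) {c : V} (hc : Q c = 0) {i : Fin t} (hi : Q (pr h i c) ≠ 0) :
    ∃ m, m ≠ i ∧ Q (pr h m c) ≠ 0 := by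
  by_contra hn
  push Not at hn
  rw [Q_eq_sum h, Finset.sum_eq_single i (fun j _ hj => hn j hj) (fun hn => absurd (Finset.mem_univ i) hn)] at hc
  exact hi hc

theorem mem_of_pr (h : Dec Q D) {i : Fin t} {x : V} (hx : ∀ j, j ≠ i → pr h j x = 0) : x ∈ D i := by
  have : pr h i x = x := ext_pr h fun j => by
    by_cases hj : j = i
    · subst hj; rw [pr_same h (pr_mem h j x)]
    · rw [pr_other h (Ne.symm hj) (pr_mem h i x), hx j hj]
  exact this ▸ pr_mem h i x

theorem exists_pr_ne (h : Dec Q D) {i : Fin t} {x : V} (hx : x ∉ D i) : ∃ j, j ≠ i ∧ pr h j x ≠ 0 := by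
  by_contra hn
  push Not at hn
  exact hx (mem_of_pr h hn)

theorem eq_zero_of_two (h : Dec Q D) {i j : Fin t} (hij : i ≠ j) {x : V} (hi : x ∈ D i) (hj : x ∈ D j) : x = 0 :=
  (pr_same h hi).symm.trans (pr_other h (Ne.symm hij) hj)

/-! ### vectors inside a member -/

theorem sep0 (h : Dec Q D) {i : Fin t} {y : V} (hy : y ∈ D i) (hy0 : y ≠ 0) : ∃ w ∈ D i, polar Q y w = 1 := by
  obtain ⟨w, hw⟩ : ∃ w ∈ D i, polar Q y w ≠ 0 := by
    by_contra hn
    push Not at hn
    exact hy0 (h.ndD i y hy hn)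
  exact ⟨(polar Q y w)⁻¹ • w, (D i).smul_mem _ hw.1, by rw [polar_smul_right, smul_eq_mul, inv_mul_cancel₀ hw.2]⟩

theorem sep2' (h : Dec Q D) {i : Fin t} {a b y : V} (ha : a ∈ D i) (hb : b ∈ D i) (hy : y ∈ D i)
    (hn : y ∉ Submodule.span F ({a, b} : Set V)) :
    ∃ w ∈ D i, polar Q a w = 0 ∧ polar Q b w = 0 ∧ polar Q y w = 1 := by
  obtain ⟨w, hw, hyw⟩ := exists_perp h.nd hn
  refine ⟨pr h i w, pr_mem h i w, ?_, ?_, ?_⟩
  · rw [polar_comm, pr_polar h i w ha, polar_comm, hw a (Submodule.subset_span (Or.inl rfl))]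
  · rw [polar_comm, pr_polar h i w hb, polar_comm, hw b (Submodule.subset_span (Or.inr rfl))]
  · rw [polar_comm, pr_polar h i w hy, polar_comm, hyw]

theorem sep1 (h : Dec Q D) {i : Fin t} {a y : V} (ha : a ∈ D i) (hy : y ∈ D i)
    (hn : y ∉ Submodule.span F ({a} : Set V)) : ∃ w ∈ D i, polar Q a w = 0 ∧ polar Q y w = 1 := by
  obtain ⟨w, hw, h1, -, h2⟩ := sep2' h ha ha hy (by simpa using hn)
  exact ⟨w, hw, h1, h2⟩

theorem exists_notin (h : Dec Q D) {i : Fin t} (a b : V) :
    ∃ y ∈ D i, y ∉ Submodule.span F ({a, b} : Set V) := by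
  classical
  refine SetLike.not_le_iff_exists.1 fun hle => ?_
  have h1 := Submodule.finrank_mono hle
  have h2 := finrank_span_le_card (R := F) ({a, b} : Set V)
  rw [Set.toFinset_insert, Set.toFinset_singleton] at h2
  have h3 := Finset.card_le_two (a := a) (b := b)
  have h4 := h.dim i
  omega

/-- an anisotropic vector perpendicular to two vectors spanning a non-degenerate plane -/
theorem aniso_two (h : Dec Q D) {i : Fin t} {a b : V} (ha : a ∈ D i) (hb : b ∈ D i)
    (hab : ∀ v ∈ Submodule.span F ({a, b} : Set V), polar Q a v = 0 → polar Q b v = 0 → v = 0) :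
    ∃ v ∈ D i, polar Q a v = 0 ∧ polar Q b v = 0 ∧ Q v ≠ 0 := by
  obtain ⟨y, hy, hyn⟩ := exists_notin h (i := i) a b
  obtain ⟨v, hv, hav, hbv, hyv⟩ := sep2' h ha hb hy hyn
  have hv0 : v ≠ 0 := fun e => by rw [e] at hyv; simp [polar] at hyv
  by_cases hq : Q v = 0
  swap
  · exact ⟨v, hv, hav, hbv, hq⟩
  obtain ⟨v', hv', hav', hbv', hvv'⟩ := sep2' h ha hb hv fun hm => hv0 (hab v hm hav hbv)
  by_cases hq' : Q v' = 0
  · exact ⟨v + v', (D i).add_mem hv hv', by rw [polar_add_right, hav, hav', add_zero],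
      by rw [polar_add_right, hbv, hbv', add_zero], by rw [map_add', hq, hq', hvv']; simp⟩
  · exact ⟨v', hv', hav', hbv', hq'⟩

theorem orth_span {a b : V} (h2 : (2 : F) ≠ 0) (ha : Q a ≠ 0) (hb : Q b ≠ 0) (hab : polar Q a b = 0) :
    ∀ v ∈ Submodule.span F ({a, b} : Set V), polar Q a v = 0 → polar Q b v = 0 → v = 0 := by
  intro v hv h1 h1'
  obtain ⟨r, s, rfl⟩ := Submodule.mem_span_pair.1 hv
  rw [polar_add_right, polar_smul_right, polar_smul_right, polar_self', hab] at h1
  rw [polar_add_right, polar_smul_right, polar_smul_right, polar_self', polar_comm Q b a, hab] at h1'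
  simp [h2, ha, hb] at h1 h1'
  rw [h1, h1', zero_smul, zero_smul, add_zero]

theorem hyp_span {e f : V} (he : Q e = 0) (hf : Q f = 0) (hef : polar Q e f = 1) :
    ∀ v ∈ Submodule.span F ({e, f} : Set V), polar Q e v = 0 → polar Q f v = 0 → v = 0 := by
  intro v hv h1 h1'
  obtain ⟨r, s, rfl⟩ := Submodule.mem_span_pair.1 hv
  rw [polar_add_right, polar_smul_right, polar_smul_right, polar_self', he, hef] at h1
  rw [polar_add_right, polar_smul_right, polar_smul_right, polar_self', hf, polar_comm Q f e, hef] at h1'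
  simp at h1 h1'
  rw [h1, h1', zero_smul, zero_smul, add_zero]

theorem exists_sing (h : Dec Q D) (i : Fin t) : ∃ f ∈ D i, f ≠ 0 ∧ Q f = 0 := by
  obtain ⟨v, hv, hq⟩ := exists_singular (Q.comp (D i).subtype) (h.dim i)
  exact ⟨v, v.2, fun e => hv (Subtype.ext e), hq⟩

theorem partner (h : Dec Q D) {i : Fin t} {e : V} (he : e ∈ D i) (he0 : e ≠ 0) (heq : Q e = 0) :
    ∃ f ∈ D i, Q f = 0 ∧ polar Q e f = 1 := by
  obtain ⟨w, hw, hew⟩ := sep0 h he he0
  refine ⟨w + (-Q w) • e, (D i).add_mem hw ((D i).smul_mem _ he), ?_, ?_⟩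
  · rw [map_add_smul, heq, polar_comm, hew]; ring
  · rw [polar_add_right, hew, polar_smul_right, polar_self', heq]; simp

theorem aniso_sing (h : Dec Q D) {i : Fin t} {e : V} (he : e ∈ D i) (he0 : e ≠ 0) (heq : Q e = 0) :
    ∃ x ∈ D i, polar Q e x = 0 ∧ Q x ≠ 0 := by
  obtain ⟨f, hf, hfq, hef⟩ := partner h he he0 heq
  obtain ⟨x, hx, h1, -, h2⟩ := aniso_two h he hf (hyp_span heq hfq hef)
  exact ⟨x, hx, h1, h2⟩

/-- singular vectors of a member pair non-trivially with each of its non-zero vectors -/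
theorem sing_pairing (h : Dec Q D) {i : Fin t} {y : V} (hy : y ∈ D i) (hy0 : y ≠ 0) :
    ∃ f ∈ D i, Q f = 0 ∧ polar Q y f ≠ 0 := by
  obtain ⟨e, he, he0, heq⟩ := exists_sing h i
  obtain ⟨f, hf, hfq, hef⟩ := partner h he he0 heq
  by_cases h1 : polar Q y e = 0
  swap
  · exact ⟨e, he, heq, h1⟩
  by_cases h1' : polar Q y f = 0
  swap
  · exact ⟨f, hf, hfq, h1'⟩
  obtain ⟨w, hw, hew, hfw, hyw⟩ := sep2' h he hf hy fun hm =>
    hy0 (hyp_span heq hfq hef y hm (by rwa [polar_comm]) (by rwa [polar_comm]))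
  refine ⟨e + w + (-Q w) • f, (D i).add_mem ((D i).add_mem he hw) ((D i).smul_mem _ hf), ?_, ?_⟩
  · simp only [map_add', map_smul', polar_add_left, polar_smul_right, heq, hfq, hef, hew, polar_comm Q w f, hfw,
      smul_eq_mul]
    ring
  · simp only [polar_add_right, polar_smul_right, h1, h1', hyw, smul_zero, add_zero, zero_add]
    exact one_ne_zero

/-! ### moves -/

/-- all Siegel transformations with centre `c` and parameter in the line of `d` lie in `H` -/
def In (H : Subgroup (oG Q)) (c d : V) : Prop := ∃ hc : Q c = 0, d ∈ tS H hc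

theorem In.sing {c d : V} (h : In H c d) : Q c = 0 := h.1

theorem In.perp {c d : V} (h : In H c d) : polar Q c d = 0 := h.2.1

theorem In.mem {c d : V} (h : In H c d) (hc : Q c = 0) (hd : polar Q c d = 0) : sO hc hd ∈ H := by
  have h1 := h.2.2 1 (by rw [one_smul]; exact hd)
  rwa [sO_congr hc _ hd (one_smul F d)] at h1

theorem In.add {c d d' : V} (h : In H c d) (h' : In H c d') : In H c (d + d') :=
  ⟨h.1, Submodule.add_mem _ h.2 h'.2⟩

theorem In.smul {c d : V} (h : In H c d) (a : F) : In H c (a • d) := ⟨h.1, Submodule.smul_mem _ a h.2⟩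

theorem In.sub {c d d' : V} (h : In H c d) (h' : In H c d') : In H c (d - d') :=
  ⟨h.1, Submodule.sub_mem _ h.2 h'.2⟩

theorem In.of_smul {c d : V} {a : F} (ha : a ≠ 0) (h : In H c (a • d)) : In H c d := by
  have := h.smul a⁻¹
  rwa [inv_smul_smul₀ ha] at this

theorem In.conj {c d : V} (h : In H c d) {g : oG Q} (hg : g ∈ H) : In H (g.1 c) (g.1 d) := by
  obtain ⟨hc, hcd, hm⟩ := h
  refine ⟨by rw [g.2, hc], by rw [polar_oG, hcd], fun a h' => ?_⟩
  have h1 := mul_mem (mul_mem hg (hm a (polar_perp_smul hcd a))) (inv_mem hg)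
  rw [conj_sO] at h1
  exact (sO_congr _ _ h' (map_smul g.1 a d)) ▸ h1

theorem In.symm {c d : V} (h : In H c d) (hd : Q d = 0) : In H d c := by
  have hp : Pl H c d := ⟨h.1, hd, h.2.1, fun l _ h' => h.2.2 l h'⟩
  exact ⟨hd, mem_tS hp.symm⟩

theorem sO_block (h : Dec Q D) (hO : Over D H) {i : Fin t} {f x : V} (hf : f ∈ D i) (hx : x ∈ D i) (hfq : Q f = 0)
    (hfx : polar Q f x = 0) : sO hfq hfx ∈ H := by
  refine hO.blocks _ (sO_mem_commutator h.nd (Or.inl ?_) _ _) fun j y hy => ?_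
  · intro hc
    have := Fintype.ofFinite F
    rw [Nat.card_eq_fintype_card] at hc
    exact h.two (by
      have := FiniteField.cast_card_eq_zero F
      rw [hc] at this
      exact_mod_cast this)
  · rw [sO_apply]
    by_cases hji : j = i
    · subst hji
      exact (D j).add_mem ((D j).add_mem ((D j).add_mem hy ((D j).smul_mem _ hf)) ((D j).smul_mem _ hx))
        ((D j).smul_mem _ hf)
    · rw [h.perp j i hji y hy x hx, h.perp j i hji y hy f hf]
      simpa using hy

theorem In.block (h : Dec Q D) (hO : Over D H) {i : Fin t} {f x : V} (hf : f ∈ D i) (hx : x ∈ D i) (hfq : Q f = 0)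
    (hfx : polar Q f x = 0) : In H f x :=
  ⟨hfq, hfx, fun _ _ => sO_block h hO hf ((D i).smul_mem _ hx) hfq _⟩

/-- the move by a Siegel transformation of a member -/
theorem In.siegel (h : Dec Q D) (hO : Over D H) {i : Fin t} {c d f x : V} (hcd : In H c d) (hf : f ∈ D i)
    (hx : x ∈ D i) (hfq : Q f = 0) (hfx : polar Q f x = 0) (hcf : polar Q c f = 0) (hcx : polar Q c x = 0) :
    In H c (polar Q d x • f - polar Q d f • x - (Q x * polar Q d f) • f) := by
  have h1 := hcd.conj (sO_block h hO hf hx hfq hfx)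
  have hc : (sO hfq hfx).1 c = c := by rw [sO_apply, hcf, hcx]; simp
  rw [hc] at h1
  have h2 := h1.sub hcd
  have e : polar Q d x • f - polar Q d f • x - (Q x * polar Q d f) • f = (sO hfq hfx).1 d - d := by
    rw [sO_apply]; module
  rwa [e]

theorem rot_mem (h : Dec Q D) (hO : Over D H) {i : Fin t} {x y : V} (hx : x ∈ D i) (hy : y ∈ D i) (hxq : Q x ≠ 0)
    (hyq : Q y ≠ 0) : ⁅rO hxq, rO hyq⁆ ∈ H := by
  refine hO.blocks _ (Subgroup.commutator_mem_commutator (Subgroup.mem_top _) (Subgroup.mem_top _)) fun j z hz => ?_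
  have hr : ∀ {v : V} (hv : Q v ≠ 0), v ∈ D i → ∀ w ∈ D j, (rO hv).1 w ∈ D j := fun {v} hv hvi w hw => by
    rw [rO_apply]
    by_cases hji : j = i
    · subst hji; exact (D j).sub_mem hw ((D j).smul_mem _ hvi)
    · rw [h.perp j i hji w hw v hvi]; simpa using hw
  rw [commutatorElement_def, rO_inv, rO_inv]
  simp only [oG_mul_apply]
  exact hr _ hx _ (hr _ hy _ (hr _ hx _ (hr _ hy z hz)))

theorem In.rot (h : Dec Q D) (hO : Over D H) {i : Fin t} {c d x y : V} (hcd : In H c d) (hx : x ∈ D i)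
    (hy : y ∈ D i) (hxq : Q x ≠ 0) (hyq : Q y ≠ 0) (hcx : polar Q c x = 0) (hcy : polar Q c y = 0) :
    In H c ((⁅rO hxq, rO hyq⁆).1 d - d) := by
  have h1 := hcd.conj (rot_mem h hO hx hy hxq hyq)
  have hc : (⁅rO hxq, rO hyq⁆).1 c = c := by
    have f1 : (rO hxq).1 c = c := by rw [rO_apply, hcx]; simp
    have f2 : (rO hyq).1 c = c := by rw [rO_apply, hcy]; simp
    rw [commutatorElement_def, rO_inv, rO_inv]
    simp only [oG_mul_apply, f1, f2]
  rw [hc] at h1
  exact h1.sub hcd

end Cfsg.Agent.ClassicalMax.DecOrth
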