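import Cfsg.Agent.ClassicalMax.DecOrth.Gen

/-!
An element with independent components in one member leads to the whole orthogonal group.
-/

set_option autoImplicit false
set_option linter.unusedSectionVars false
set_option linter.style.haveILetI false

namespace Cfsg.Agent.ClassicalMax.DecOrth

open Module QuadraticMap Cfsg.Agent.Classical Cfsg.Agent.Classical.Quad Cfsg.Agent.ClassicalMax.RootPlanes
open scoped commutatorElement

variable {F V : Type*} [Field F] [Finite F] [AddCommGroup V] [Module F V] [FiniteDimensional F V]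
  {Q : QuadraticForm F V} {t : ℕ} {D : Fin t → Submodule F V} {H : Subgroup (oG Q)}

/-- the component of the centre is singular or zero -/
theorem singU (h : Dec Q D) (hO : Over D H) {i : Fin t} {c d : V} (hcd : In H c d) (hc : c ∉ D i)
    (hu : Q (pr h i c) = 0) (hd : pr h i d ∉ Submodule.span F ({pr h i c} : Set V)) : eo Q ≤ H := by
  have hu' := pr_mem h i c
  by_cases h0 : pr h i c = 0
  · have hd0 : pr h i d ≠ 0 := ne_zero_of_notin hd
    obtain ⟨f, hf, hf0, hfq⟩ := exists_sing h i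
    exact sing_param h hO (fill h hO hcd h0 hd0 f hf) hf hf0 hfq hc
  set u := pr h i c
  have hcu : ∀ {z : V}, z ∈ D i → polar Q u z = 0 → polar Q c z = 0 := fun {z} hz hz' => by
    rw [← pr_polar h i c hz]; exact hz'
  have huu : polar Q u u = 0 := by rw [polar_self', hu, mul_zero]
  refine sing_param h hO (f := u) ?_ hu' h0 hu hc
  by_cases hb : polar Q d u = 0
  · obtain ⟨w, hw, huw, hdw⟩ := sep1 h hu' (pr_mem h i d) hd
    rw [pr_polar h i d hw] at hdw
    have := hcd.siegel h hO hu' hw hu huw (hcu hu' huu) (hcu hw huw)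
    rw [hdw, hb] at this
    simpa using this
  · obtain ⟨a, ha, hua, haq⟩ := aniso_sing h hu' h0 hu
    have h1 := hcd.siegel h hO hu' ha hu hua (hcu hu' huu) (hcu ha hua)
    have h2 := hcd.siegel h hO hu' ((D i).smul_mem (-1) ha) hu (polar_perp_smul hua _) (hcu hu' huu)
      (hcu ((D i).smul_mem _ ha) (polar_perp_smul hua _))
    have := h1.add h2
    rw [map_smul', polar_smul_right, smul_eq_mul] at this
    have e : polar Q d a • u - polar Q d u • a - (Q a * polar Q d u) • u +
        ((-1 * polar Q d a) • u - polar Q d u • ((-1 : F) • a) - (-1 * -1 * Q a * polar Q d u) • u) =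
        (-(2 * Q a * polar Q d u)) • u := by module
    rw [e] at this
    exact this.of_smul (neg_ne_zero.2 (mul_ne_zero (mul_ne_zero h.two haq) hb))

omit [Finite F] [FiniteDimensional F V] in
theorem indep {e a u : V} (heq : Q e = 0) (haq : Q a ≠ 0) (hea : polar Q e a = 0) (heu : polar Q e u ≠ 0)
    (β β' : F) : a - β' • u ∉ Submodule.span F ({e - β • u} : Set V) := fun hm => by
  obtain ⟨ρ, hρ⟩ := Submodule.mem_span_singleton.1 hm
  have h1 := congrArg (polar Q e) hρ
  simp only [polar_sub_right, polar_smul_right, smul_eq_mul, hea, polar_self', heq, mul_zero, zero_sub] at h1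
  have h2 : β' = ρ * β := mul_right_cancel₀ heu (by linear_combination h1)
  subst h2
  refine haq ?_
  have h3 : a = ρ • e := by linear_combination (norm := module) -hρ
  rw [h3, map_smul', heq, mul_zero]

/-- conjugates of a member's root groups by the element with parameter in another member -/
theorem image (h : Dec Q D) (hO : Over D H) {n m : Fin t} {c w : V} (hcw : In H c w) (hw : w ∈ D n) (hwq : Q w ≠ 0)
    (hmn : m ≠ n) (hu : Q (pr h m c) ≠ 0) {l : F} (hl : l ≠ 0) :
    ∃ c' d', In H c' d' ∧ c' ∉ D m ∧ pr h m d' ∉ Submodule.span F ({pr h m c'} : Set V) ∧ pr h m c' ≠ 0 ∧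
      ∃ b : F, b ≠ 0 ∧ Q (pr h m c') = b * b * (l * l * Q w * (l * l * Q w * Q (pr h m c) - 1)) := by
  have hu' := pr_mem h m c
  set u := pr h m c with hudef
  have hu0 : u ≠ 0 := fun e => hu (by rw [e, map_zero])
  obtain ⟨e, he, heq, hue⟩ := sing_pairing h hu' hu0
  have he0 : e ≠ 0 := fun e' => hue (by rw [e']; simp [polar])
  obtain ⟨a, ha, hea, haq⟩ := aniso_sing h he he0 heq
  have hd := (In.block h hO he ha heq hea).conj ((hcw.smul l).mem hcw.sing (polar_perp_smul hcw.perp l))
  set g := sO hcw.sing (polar_perp_smul hcw.perp l)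
  set s := l * l * Q w
  have hgy : ∀ y ∈ D m, g.1 y = y - polar Q u y • (l • w + s • c) := fun y hy => by
    rw [sO_apply, polar_smul_right, h.perp m n hmn y hy w hw, polar_comm Q y c, ← pr_polar h m c hy, map_smul']
    simp only [s]
    module
  have hprm : ∀ y ∈ D m, pr h m (g.1 y) = y - (polar Q u y * s) • u := fun y hy => by
    rw [hgy y hy, map_sub, map_smul, map_add, map_smul, map_smul, pr_same h hy, pr_other h hmn.symm hw, ← hudef]
    module
  have heu : polar Q e u ≠ 0 := by rwa [polar_comm]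
  have hind := indep heq haq hea heu (polar Q u e * s) (polar Q u a * s)
  refine ⟨g.1 e, g.1 a, hd, fun hm => ?_, ?_, ?_, polar Q u e, hue, ?_⟩
  · have h1 : pr h n (g.1 e) = 0 := pr_other h hmn hm
    rw [hgy e he, map_sub, map_smul, map_add, map_smul, map_smul, pr_same h hw, pr_other h hmn he, zero_sub,
      neg_eq_zero, smul_eq_zero] at h1
    have h2 := congrArg (fun z => polar Q z w) (h1.resolve_left hue)
    have h3 : polar Q (pr h n c) w = 0 := by rw [pr_polar h n c hw, hcw.perp]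
    simp only [polar_add_left, polar_smul_left, smul_eq_mul, polar_self', h3, mul_zero, add_zero] at h2
    rw [show polar Q (0 : V) w = 0 by simp [polar]] at h2
    exact mul_ne_zero hl (mul_ne_zero h.two hwq) h2
  · rw [hprm e he, hprm a ha]; exact hind
  · rw [hprm e he]
    intro h0
    refine mul_ne_zero (mul_ne_zero h.two haq) one_ne_zero ?_
    have h1 : polar Q e (e - (polar Q u e * s) • u) = 0 := by rw [h0]; simp [polar]
    simp only [polar_sub_right, polar_smul_right, smul_eq_mul, polar_self', heq, mul_zero, zero_sub, neg_eq_zero,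
      mul_eq_zero, hue, heu, or_false, false_or] at h1
    rw [h1] at h0
    simp at h0
    exact absurd h0 he0
  · rw [hprm e he, sub_eq_add_neg, ← neg_smul, map_add', map_smul', polar_smul_right, heq, smul_eq_mul, polar_comm Q e u]
    ring

/-- the class of the centre's component matches that of the parameter -/
theorem trick (h : Dec Q D) (hO : Over D H) {n m : Fin t} {c w : V} (hcw : In H c w) (hw : w ∈ D n) (hwq : Q w ≠ 0)
    (hmn : m ≠ n) (hu : Q (pr h m c) ≠ 0) {r : F} (hr : Q w * Q (pr h m c) = r * r) : eo Q ≤ H := by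
  have hr0 : r ≠ 0 := fun e => mul_ne_zero hwq hu (by rw [hr, e, mul_zero])
  obtain ⟨c', d', hd, hc', hind, -, b, -, hb⟩ := image h hO hcw hw hwq hmn hu (inv_ne_zero hr0)
  refine singU h hO hd hc' ?_ hind
  rw [hb, show r⁻¹ * r⁻¹ * Q w * Q (pr h m c) = r⁻¹ * r⁻¹ * (Q w * Q (pr h m c)) by ring, hr]
  field_simp
  ring

/-- a singular vector of another member is perpendicular to the centre -/
theorem hyp_trick (h : Dec Q D) (hO : Over D H) {n m : Fin t} {c w f : V} (hcw : In H c w) (hw : w ∈ D n)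
    (hw0 : w ≠ 0) (hmn : m ≠ n) (hu : Q (pr h m c) ≠ 0) (hf : f ∈ D m) (hf0 : f ≠ 0) (hfq : Q f = 0)
    (hcf : polar Q c f = 0) : eo Q ≤ H := by
  have hu' := pr_mem h m c
  set u := pr h m c with hudef
  have hfu : polar Q f u = 0 := by rw [polar_comm, hudef, pr_polar h m c hf, hcf]
  have hfw : polar Q f w = 0 := h.perp m n hmn f hf w hw
  have step : ∀ l : F, In H f (u + (-(2 * Q u)) • (l • w) + (-(2 * Q u * (l * l * Q w))) • c) := fun l => by
    have := (In.block h hO hf hu' hfq hfu).conj ((hcw.smul l).mem hcw.sing (polar_perp_smul hcw.perp l))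
    rw [sO_apply, sO_apply, polar_smul_right, polar_smul_right, polar_comm Q f c, hcf, hfw, h.perp m n hmn u hu' w hw,
      polar_comm Q u c, hudef, pr_polar_self h m c, ← hudef, map_smul'] at this
    simp only [smul_zero, zero_smul, neg_zero, mul_zero, add_zero] at this
    convert this using 1
    module
  have h1 := (step 1).sub (step (-1))
  have e : u + (-(2 * Q u)) • ((1 : F) • w) + (-(2 * Q u * (1 * 1 * Q w))) • c -
      (u + (-(2 * Q u)) • ((-1 : F) • w) + (-(2 * Q u * (-1 * -1 * Q w))) • c) = (-(2 * 2 * Q u)) • w := by module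
  rw [e] at h1
  have h2 := h1.of_smul (neg_ne_zero.2 (mul_ne_zero (mul_ne_zero h.two h.two) hu))
  obtain ⟨f', hf', hf'0, hf'q⟩ := exists_sing h n
  refine sing_param h hO (fill h hO h2 (pr_other h hmn hf) (by rwa [pr_same h hw]) f' hf') hf' hf'0 hf'q fun hm => ?_
  exact hf0 (eq_zero_of_two h hmn hf hm)

/-- two independent parameters in one member -/
theorem two_param (h : Dec Q D) (hO : Over D H) {n m : Fin t} {c W₁ W₂ : V} (h1 : In H c W₁) (h2 : In H c W₂)
    (hW₁ : W₁ ∈ D n) (hW₂ : W₂ ∈ D n) (hind : ∀ a b : F, a • W₁ + b • W₂ = 0 → a = 0 ∧ b = 0)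
    (hmn : m ≠ n) (hu : Q (pr h m c) ≠ 0) : eo Q ≤ H := by
  set u := pr h m c
  let L : (Fin 3 → F) →ₗ[F] V := (LinearMap.proj 0).smulRight W₁ + (LinearMap.proj 1).smulRight W₂
  let Q' : QuadraticForm F (Fin 3 → F) := Q.comp L + (-(Q u)⁻¹) • QuadraticMap.proj 2 2
  obtain ⟨p, hp0, hp⟩ := exists_singular Q' (by simp)
  have hp' : Q (p 0 • W₁ + p 1 • W₂) = (Q u)⁻¹ * (p 2 * p 2) := by
    simp [Q', L, QuadraticMap.proj_apply] at hp
    linear_combination hp
  have hin : In H c (p 0 • W₁ + p 1 • W₂) := (h1.smul _).add (h2.smul _)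
  have hmem : p 0 • W₁ + p 1 • W₂ ∈ D n := (D n).add_mem ((D n).smul_mem _ hW₁) ((D n).smul_mem _ hW₂)
  by_cases hp2 : p 2 = 0
  · refine sing_param h hO hin hmem (fun e => hp0 ?_) (by rw [hp', hp2]; ring) fun hm => hu ?_
    · obtain ⟨e0, e1⟩ := hind _ _ e
      funext j
      fin_cases j <;> assumption
    · show Q (pr h m c) = 0
      rw [pr_other h hmn.symm hm, map_zero]
  refine trick h hO hin hmem ?_ hmn hu (r := p 2) ?_
  · rw [hp']; exact mul_ne_zero (inv_ne_zero hu) (mul_ne_zero hp2 hp2)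
  · rw [hp']; field_simp; rfl

omit [Finite F] [FiniteDimensional F V] in
theorem rO_rO {x : V} (hx : Q x ≠ 0) (p : V) : (rO hx).1 ((rO hx).1 p) = p := by
  rw [← oG_mul_apply, rO_mul_self, oG_one_apply]

omit [Finite F] [FiniteDimensional F V] in
theorem comm_apply {x y : V} (hx : Q x ≠ 0) (hy : Q y ≠ 0) (p : V) :
    (⁅rO hx, rO hy⁆).1 p = (rO hx).1 ((rO hy).1 ((rO hx).1 ((rO hy).1 p))) := by
  rw [commutatorElement_def, rO_inv, rO_inv]
  simp only [oG_mul_apply]

omit [Finite F] [FiniteDimensional F V] in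
theorem rot_fix (h2 : (2 : F) ≠ 0) {x v d : V} (hx : Q x ≠ 0) (hv : Q v ≠ 0) (hxv : polar Q x v = 0)
    (hy : Q (x + v) ≠ 0) (e : (⁅rO hx, rO hy⁆).1 d = d) : polar Q d x = 0 ∧ polar Q d (x + v) = 0 := by
  have e1 : (rO hx).1 ((rO hy).1 d) = (rO hy).1 ((rO hx).1 d) := by
    have := congrArg (fun z => (rO hy).1 ((rO hx).1 z)) e
    simpa only [comm_apply, rO_rO] using this
  have hyv : polar Q (x + v) v = 2 * Q v := by rw [polar_add_left, hxv, polar_self', zero_add]
  have hyx : polar Q (x + v) x = 2 * Q x := by rw [polar_add_left, polar_comm Q v x, hxv, polar_self', add_zero]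
  have e2 : (polar Q d (x + v) / Q (x + v) * (2 * Q x / Q x)) • x -
      (polar Q d x / Q x * (2 * Q x / Q (x + v))) • (x + v) = 0 := by
    simp only [rO_apply, polar_sub_left, polar_smul_left, smul_eq_mul, hyx, polar_comm Q x (x + v)] at e1
    rw [← sub_eq_zero] at e1
    refine Eq.trans ?_ e1
    match_scalars <;> field_simp <;> ring
  have h3 := congrArg (fun z => polar Q z v) e2
  simp only [polar_sub_left, polar_smul_left, smul_eq_mul, hxv, hyv, mul_zero, zero_sub] at h3
  rw [show polar Q (0 : V) v = 0 by simp [polar]] at h3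
  have hα : polar Q d x = 0 := by simpa [hx, hy, hv, h2] using h3
  refine ⟨hα, ?_⟩
  rw [hα, zero_div, zero_mul, zero_smul, sub_zero, smul_eq_zero] at e2
  have hx0 : x ≠ 0 := fun e => hx (by rw [e, map_zero])
  simpa [hx, hy, h2] using e2.resolve_right hx0

omit [Finite F] [FiniteDimensional F V] in
theorem rot_sub_mem {x v d : V} (hx : Q x ≠ 0) (hy : Q (x + v) ≠ 0) :
    (⁅rO hx, rO hy⁆).1 d - d ∈ Submodule.span F ({x, v} : Set V) := by
  set S := Submodule.span F ({x, v} : Set V)
  have hxS : x ∈ S := Submodule.subset_span (Or.inl rfl)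
  have hvS : v ∈ S := Submodule.subset_span (Or.inr rfl)
  have r : ∀ {a : V} (ha : Q a ≠ 0), a ∈ S → ∀ p, p - d ∈ S → (rO ha).1 p - d ∈ S := fun {a} ha haS p hp => by
    rw [rO_apply, sub_right_comm]
    exact S.sub_mem hp (S.smul_mem _ haS)
  rw [comm_apply]
  exact r hx hxS _ (r hy (S.add_mem hxS hvS) _ (r hx hxS _ (r hy (S.add_mem hxS hvS) _ (by rw [sub_self]; exact S.zero_mem))))

theorem exists_scalar (hF : 5 ≤ Nat.card F) : ∃ s : F, s ≠ 0 ∧ s ≠ 1 ∧ s ≠ -1 := by
  classical
  have := Fintype.ofFinite F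
  have hc : ({0, 1, -1} : Finset F).card < Fintype.card F := by
    rw [← Nat.card_eq_fintype_card]
    exact lt_of_le_of_lt Finset.card_le_three (by omega)
  obtain ⟨s, -, hs⟩ := Finset.exists_mem_notMem_of_card_lt_card (t := (Finset.univ : Finset F))
    (lt_of_lt_of_eq hc Finset.card_univ.symm)
  simp at hs
  exact ⟨s, hs.1, hs.2.1, hs.2.2⟩

/-- vectors perpendicular to the anisotropic component -/
theorem exists_x (h : Dec Q D) {i : Fin t} {u d : V} (hu : u ∈ D i) (huq : Q u ≠ 0)
    (hd : pr h i d ∉ Submodule.span F ({u} : Set V)) :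
    ∃ x ∈ D i, polar Q u x = 0 ∧ Q x ≠ 0 ∧ polar Q d x ≠ 0 := by
  obtain ⟨w, hw, huw, hdw⟩ := sep1 h hu (pr_mem h i d) hd
  rw [pr_polar h i d hw] at hdw
  obtain ⟨a, ha, hua, -, haq⟩ := aniso_two h hu hu (fun v hv h1 _ => by
    obtain ⟨c, rfl⟩ := Submodule.mem_span_singleton.1 (by simpa using hv)
    rw [polar_smul_right, polar_self', smul_eq_mul] at h1
    simp [h.two, huq] at h1
    rw [h1, zero_smul])
  by_cases hwq : Q w = 0
  swap
  · exact ⟨w, hw, huw, hwq, by rw [hdw]; exact one_ne_zero⟩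
  by_cases hda : polar Q d a = 0
  swap
  · exact ⟨a, ha, hua, haq, hda⟩
  have hd' : ∀ c : F, polar Q d (w + c • a) ≠ 0 := fun c => by
    rw [polar_add_right, polar_smul_right, hdw, hda, smul_zero, add_zero]; exact one_ne_zero
  have hu' : ∀ c : F, polar Q u (w + c • a) = 0 := fun c => polar_perp_add huw (polar_perp_smul hua c)
  by_cases h1 : Q (w + (1 : F) • a) = 0
  swap
  · exact ⟨_, (D i).add_mem hw ((D i).smul_mem _ ha), hu' 1, h1, hd' 1⟩
  refine ⟨_, (D i).add_mem hw ((D i).smul_mem (-1 : F) ha), hu' (-1), fun h2 => ?_, hd' (-1)⟩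
  rw [map_add_smul, hwq] at h1 h2
  exact mul_ne_zero h.two haq (by linear_combination h1 + h2)

theorem exists_v (h : Dec Q D) {i : Fin t} {u x : V} (hu : u ∈ D i) (huq : Q u ≠ 0) (hx : x ∈ D i)
    (hux : polar Q u x = 0) (hxq : Q x ≠ 0) :
    ∃ v ∈ D i, polar Q u v = 0 ∧ polar Q x v = 0 ∧ Q v ≠ 0 ∧ Q (x + v) ≠ 0 := by
  classical
  obtain ⟨v, hv, huv, hxv, hvq⟩ := aniso_two h hu hx (orth_span h.two huq hxq hux)
  have hsum : ∀ {z : V}, polar Q x z = 0 → Q (x + z) = Q x + Q z := fun {z} hz => by rw [map_add', hz, add_zero]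
  by_cases hs : Q (x + v) = 0
  swap
  · exact ⟨v, hv, huv, hxv, hvq, hs⟩
  rw [hsum hxv] at hs
  rcases h.size with hq | hd
  · obtain ⟨s, hs0, hs1, hs2⟩ := exists_scalar hq
    refine ⟨s • v, (D i).smul_mem _ hv, polar_perp_smul huv s, polar_perp_smul hxv s,
      by rw [map_smul']; exact mul_ne_zero (mul_ne_zero hs0 hs0) hvq, fun e => ?_⟩
    rw [hsum (polar_perp_smul hxv s), map_smul'] at e
    have : (s - 1) * (s + 1) * Q v = 0 := by linear_combination e - hs
    rcases mul_eq_zero.1 this with h' | h'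
    · rcases mul_eq_zero.1 h' with h'' | h''
      · exact hs1 (sub_eq_zero.1 h'')
      · exact hs2 (eq_neg_of_add_eq_zero_left h'')
    · exact hvq h'
  obtain ⟨y, hy, hyn⟩ : ∃ y ∈ D i, y ∉ Submodule.span F ({u, x, v} : Set V) := by
    refine SetLike.not_le_iff_exists.1 fun hle => ?_
    have h1 := Submodule.finrank_mono hle
    have h2 := finrank_span_le_card (R := F) ({u, x, v} : Set V)
    rw [Set.toFinset_insert, Set.toFinset_insert, Set.toFinset_singleton] at h2
    have h3 := Finset.card_le_three (a := u) (b := x) (c := v)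
    have h4 := hd i
    omega
  obtain ⟨w₀, hw₀, hyw₀⟩ := exists_perp h.nd hyn
  have hp : ∀ z ∈ D i, z ∈ ({u, x, v} : Set V) → polar Q z (pr h i w₀) = 0 := fun z hz hm => by
    rw [polar_comm, pr_polar h i w₀ hz, polar_comm, hw₀ z (Submodule.subset_span hm)]
  set w := pr h i w₀ with hwdef
  have hw := pr_mem h i w₀
  have huw : polar Q u w = 0 := hp u hu (Or.inl rfl)
  have hxw : polar Q x w = 0 := hp x hx (Or.inr (Or.inl rfl))
  have hvw : polar Q v w = 0 := hp v hv (Or.inr (Or.inr rfl))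
  by_cases hwq : Q w = 0
  swap
  · by_cases h1 : Q (x + w) = 0
    swap
    · exact ⟨w, hw, huw, hxw, hwq, h1⟩
    rw [hsum hxw] at h1
    have e2 : Q (v + w) = -(2 * Q x) := by rw [map_add', hvw]; linear_combination hs + h1
    refine ⟨v + w, (D i).add_mem hv hw, polar_perp_add huv huw, polar_perp_add hxv hxw,
      by rw [e2]; exact neg_ne_zero.2 (mul_ne_zero h.two hxq), ?_⟩
    rw [hsum (polar_perp_add hxv hxw), e2]
    exact fun e => hxq (by linear_combination -e)
  have hw0 : w ≠ 0 := fun e => by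
    have : polar Q y w = 1 := by rw [polar_comm, hwdef, pr_polar h i w₀ hy, polar_comm, hyw₀]
    rw [e] at this
    simp [polar] at this
  obtain ⟨z, hz, huz, hxz, hwz⟩ := sep2' h hu hx hw fun hm => hw0 (orth_span h.two huq hxq hux w hm huw hxw)
  have e3 : Q (z + (Q x - Q z) • w) = Q x := by rw [map_add_smul, hwq, polar_comm Q z w, hwz]; ring
  refine ⟨_, (D i).add_mem hz ((D i).smul_mem (Q x - Q z) hw), polar_perp_add huz (polar_perp_smul huw _),
    polar_perp_add hxz (polar_perp_smul hxw _), by rwa [e3], ?_⟩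
  rw [hsum (polar_perp_add hxz (polar_perp_smul hxw _)), e3, ← two_mul]
  exact mul_ne_zero h.two hxq

/-- anisotropic component with anisotropic perp in the member -/
theorem ell (h : Dec Q D) (hO : Over D H) {i : Fin t} {c d : V} (hcd : In H c d) (hu : Q (pr h i c) ≠ 0)
    (hd : pr h i d ∉ Submodule.span F ({pr h i c} : Set V))
    (hU : ∀ f ∈ D i, Q f = 0 → polar Q (pr h i c) f = 0 → f = 0) (hF : 5 ≤ Nat.card F) : eo Q ≤ H := by
  have hu' := pr_mem h i c
  set u := pr h i c with hudef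
  obtain ⟨x, hx, hux, hxq, hdx⟩ := exists_x h hu' hu hd
  obtain ⟨v₀, hv₀, huv₀, hxv₀, hv₀q, -⟩ := exists_v h hu' hu hx hux hxq
  obtain ⟨v, hv, huv, hxv, hvq, hne⟩ : ∃ v ∈ D i, polar Q u v = 0 ∧ polar Q x v = 0 ∧ Q v ≠ 0 ∧ Q x ≠ Q v := by
    by_cases he : Q x = Q v₀
    swap
    · exact ⟨v₀, hv₀, huv₀, hxv₀, hv₀q, he⟩
    obtain ⟨s, hs0, hs1, hs2⟩ := exists_scalar hF
    refine ⟨s • v₀, (D i).smul_mem _ hv₀, polar_perp_smul huv₀ s, polar_perp_smul hxv₀ s,
      by rw [map_smul']; exact mul_ne_zero (mul_ne_zero hs0 hs0) hv₀q, fun e => ?_⟩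
    rw [map_smul', he] at e
    have : (s - 1) * (s + 1) * Q v₀ = 0 := by linear_combination -e
    rcases mul_eq_zero.1 this with h' | h'
    · rcases mul_eq_zero.1 h' with h'' | h''
      · exact hs1 (sub_eq_zero.1 h'')
      · exact hs2 (eq_neg_of_add_eq_zero_left h'')
    · exact hv₀q h'
  have hy : Q (x + v) ≠ 0 := fun e => by
    have hz := hU (x + v) ((D i).add_mem hx hv) e (polar_perp_add hux huv)
    have := congrArg (polar Q x) hz
    rw [polar_add_right, hxv, polar_self', add_zero] at this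
    simp [polar, h.two, hxq] at this
  have hS : Submodule.span F ({x, v} : Set V) ≤ D i :=
    Submodule.span_le.2 (by rintro z (rfl | rfl) <;> assumption)
  have hcx : ∀ {z : V}, z ∈ D i → polar Q u z = 0 → polar Q c z = 0 := fun {z} hz hz' => by
    rw [← pr_polar h i c hz]; exact hz'
  have hperpS : ∀ z ∈ Submodule.span F ({x, v} : Set V), polar Q u z = 0 := by
    intro z hz
    obtain ⟨a, b, rfl⟩ := Submodule.mem_span_pair.1 hz
    exact polar_perp_add (polar_perp_smul hux a) (polar_perp_smul huv b)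
  set z := ⁅rO hxq, rO hy⁆
  have rot : ∀ {p : V}, In H c p → In H c (z.1 p - p) := fun hp =>
    hp.rot h hO hx ((D i).add_mem hx hv) hxq hy (hcx hx hux) (hcx ((D i).add_mem hx hv) (polar_perp_add hux huv))
  obtain ⟨m, hmi, hm⟩ := exists_other_aniso h hcd.sing hu
  set W := z.1 d - d
  have hW : In H c W := rot hcd
  have hWS : W ∈ Submodule.span F ({x, v} : Set V) := rot_sub_mem hxq hy
  have hWi : W ∈ D i := hS hWS
  have hW0 : W ≠ 0 := fun e => hdx (rot_fix h.two hxq hvq hxv hy (sub_eq_zero.1 e)).1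
  have hWq : Q W ≠ 0 := fun e => hW0 (hU W hWi e (hperpS W hWS))
  have hW2 : z.1 W - W ∈ D i := hS (rot_sub_mem hxq hy)
  refine two_param h hO hW (rot hW) hWi hW2 (fun a b hab => ?_) hmi hm
  by_cases hb : b = 0
  · subst hb
    rw [zero_smul, add_zero, smul_eq_zero] at hab
    exact ⟨hab.resolve_right hW0, rfl⟩
  exfalso
  set r := 1 - a / b with hr
  have hzW : z.1 W = r • W := by
    have h1 : b⁻¹ • (a • W + b • (z.1 W - W)) = 0 := by rw [hab, smul_zero]
    rw [smul_add, smul_smul, smul_smul, inv_mul_cancel₀ hb, one_smul] at h1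
    rw [hr, div_eq_mul_inv]
    linear_combination (norm := module) h1
  have hrr : r * r = 1 := by
    have h1 := z.2 W
    rw [hzW, map_smul'] at h1
    exact mul_right_cancel₀ hWq (by rw [one_mul]; exact h1)
  obtain ⟨i₀, j₀, hij⟩ := Submodule.mem_span_pair.1 hWS
  have hWx : polar Q W x = i₀ * (2 * Q x) := by
    rw [← hij, polar_add_left, polar_smul_left, polar_smul_left, polar_self', polar_comm Q v x, hxv]
    simp
  have hWy : polar Q W (x + v) = i₀ * (2 * Q x) + j₀ * (2 * Q v) := by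
    rw [polar_add_right, hWx, ← hij, polar_add_left, polar_smul_left, polar_smul_left, polar_self', hxv]
    simp
  have hfin : i₀ = 0 → j₀ = 0 → False := fun e1 e2 => hW0 (by rw [← hij, e1, e2]; simp)
  rcases mul_self_eq_one_iff.1 hrr with e | e
  · rw [e, one_smul] at hzW
    obtain ⟨e1, e2⟩ := rot_fix h.two hxq hvq hxv hy hzW
    rw [hWx] at e1
    have hi0 : i₀ = 0 := by simpa [h.two, hxq] using e1
    rw [hWy, hi0] at e2
    exact hfin hi0 (by simpa [h.two, hvq] using e2)
  · rw [e, neg_one_smul] at hzW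
    have e1 : (rO hxq).1 ((rO hy).1 W) = -(rO hy).1 ((rO hxq).1 W) := by
      have := congrArg (fun p => (rO hy).1 ((rO hxq).1 p)) hzW
      simpa only [z, comm_apply, rO_rO, map_neg] using this
    have hvW : polar Q W v = j₀ * (2 * Q v) := by
      rw [← hij, polar_add_left, polar_smul_left, polar_smul_left, polar_self', hxv]; simp
    have hyq : Q (x + v) = Q x + Q v := by rw [map_add', hxv, add_zero]
    have k1 := congrArg (fun p => polar Q p x) e1
    have k2 := congrArg (fun p => polar Q p v) e1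
    simp only [rO_apply, polar_neg_left, polar_sub_left, polar_smul_left, polar_add_left, polar_add_right, smul_eq_mul,
      polar_self', hWx, hvW, hxv, polar_comm Q v x, hyq] at k1 k2
    have hs : Q x + Q v ≠ 0 := hyq ▸ hy
    field_simp at k1 k2
    have hsub : Q x - Q v ≠ 0 := sub_ne_zero.2 hne
    have hi0 : i₀ = 0 := by
      have : i₀ * (Q x - Q v) * (2 * 2 * Q x) = 0 := by linear_combination k1
      simpa [h.two, hxq, hsub] using this
    subst hi0
    have : j₀ * (Q x - Q v) * (2 * 2 * (Q x * Q v)) = 0 := by linear_combination k2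
    exact hfin rfl (by simpa [h.two, hxq, hvq, hsub] using this)

theorem no_sing (h : Dec Q D) {m : Fin t} {u u' : V} (hu : u ∈ D m) (hu' : u' ∈ D m) (huq : Q u ≠ 0)
    (hu'q : Q u' ≠ 0) {r : F} (hr : Q u' * Q u = r * r)
    (hU : ∀ f ∈ D m, Q f = 0 → polar Q u f = 0 → f = 0) : ∀ f ∈ D m, Q f = 0 → polar Q u' f = 0 → f = 0 := by
  intro f hf hfq hu'f
  have hr0 : r ≠ 0 := fun e => mul_ne_zero hu'q huq (by rw [hr, e, mul_zero])
  set u₂ := (Q u / r) • u' with hu₂
  have hq2 : Q u₂ = Q u := by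
    rw [hu₂, map_smul']; field_simp; linear_combination hr
  have hu₂f : polar Q u₂ f = 0 := by rw [hu₂, polar_smul_left, hu'f, smul_zero]
  have fin : ∀ (v : V) (hv : Q v ≠ 0), v ∈ D m → ∀ ε : F, ε ≠ 0 → (rO hv).1 u₂ = ε • u → f = 0 := by
    intro v hv hvm ε hε e
    have h1 : polar Q u ((rO hv).1 f) = 0 := by
      have := polar_oG (rO hv) u₂ f
      rw [e, hu₂f, polar_smul_left, smul_eq_mul, mul_eq_zero] at this
      exact this.resolve_left hε
    have h2 := hU _ (by rw [rO_apply]; exact (D m).sub_mem hf ((D m).smul_mem _ hvm)) (by rw [(rO hv).2, hfq]) h1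
    exact (rO hv).1.map_eq_zero_iff.1 h2
  have hu₂m : u₂ ∈ D m := (D m).smul_mem _ hu'
  by_cases h1 : Q (u + u₂) = 0
  swap
  · refine fin (u + u₂) h1 ((D m).add_mem hu hu₂m) (-1) (neg_ne_zero.2 one_ne_zero) ?_
    rw [rO_apply, show polar Q u₂ (u + u₂) = Q (u + u₂) by
      rw [map_add', polar_add_right, polar_self', hq2, polar_comm Q u₂ u]; ring, div_self h1]
    module
  have h2 : Q (u + (-1 : F) • u₂) ≠ 0 := fun h2 => by
    rw [map_add_smul, hq2] at h2
    rw [map_add', hq2] at h1
    exact mul_ne_zero (mul_ne_zero h.two h.two) huq (by linear_combination h1 + h2)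
  refine fin _ h2 ((D m).add_mem hu ((D m).smul_mem _ hu₂m)) 1 one_ne_zero ?_
  rw [rO_apply, show polar Q u₂ (u + (-1 : F) • u₂) = -Q (u + (-1 : F) • u₂) by
    rw [map_add_smul, polar_add_right, polar_smul_right, polar_self', hq2, polar_comm Q u₂ u, smul_eq_mul]; ring,
    neg_div, div_self h2]
  module

/-- one anisotropic parameter in another member -/
theorem one_param (h : Dec Q D) (hO : Over D H) {n m : Fin t} {c w : V} (hcw : In H c w) (hw : w ∈ D n)
    (hwq : Q w ≠ 0) (hmn : m ≠ n) (hu : Q (pr h m c) ≠ 0) : eo Q ≤ H := by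
  have hu' := pr_mem h m c
  set u := pr h m c with hudef
  by_cases hU : ∀ f ∈ D m, Q f = 0 → polar Q u f = 0 → f = 0
  swap
  · push Not at hU
    obtain ⟨f, hf, hfq, huf, hf0⟩ := hU
    exact hyp_trick h hO hcw hw (fun e => hwq (by rw [e, map_zero])) hmn hu hf hf0 hfq
      (by rw [← pr_polar h m c hf]; exact huf)
  by_cases hsq : IsSquare (Q w * Q u)
  · obtain ⟨r, hr⟩ := hsq
    exact trick h hO hcw hw hwq hmn hu hr
  have hF : 5 ≤ Nat.card F := h.size.resolve_right fun hd => by
    let L : D m →ₗ[F] F := (polarBilin Q u).comp (D m).subtype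
    have h1 := L.finrank_range_add_finrank_ker
    have h2 := (Submodule.finrank_le (LinearMap.range L)).trans_eq (Module.finrank_self F)
    have h3 := hd m
    obtain ⟨p, hp0, hp⟩ := exists_singular ((Q.comp (D m).subtype).comp (LinearMap.ker L).subtype)
      (by omega : 3 ≤ finrank F (LinearMap.ker L))
    exact hp0 (Subtype.ext (Subtype.ext (hU _ (p : D m).2 hp p.2)))
  set ν := Q w * Q u with hν
  have hν0 : ν ≠ 0 := mul_ne_zero hwq hu
  obtain ⟨r, hr0, hr1, hr2⟩ : ∃ r : F, r ≠ 0 ∧ ν * (r * r) ≠ 1 ∧ ν * (r * r) ≠ -1 := by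
    have hne1 : ∀ r : F, r ≠ 0 → ν * (r * r) ≠ 1 := fun r hr e => hsq ⟨r⁻¹, by field_simp; linear_combination e⟩
    by_cases h1 : ν = -1
    · obtain ⟨s, hs0, hs1, hs2⟩ := exists_scalar hF
      refine ⟨s, hs0, hne1 s hs0, fun e => ?_⟩
      rw [h1] at e
      rcases mul_self_eq_one_iff.1 (show s * s = 1 by linear_combination -e) with e' | e'
      · exact hs1 e'
      · exact hs2 e'
    · exact ⟨1, one_ne_zero, hne1 1 one_ne_zero, by rwa [one_mul, mul_one]⟩
  set R := (ν * r)⁻¹ with hR
  have hνrR : ν * r * R = 1 := mul_inv_cancel₀ (mul_ne_zero hν0 hr0)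
  set a := (r + R) / 2 with ha
  set b := (r - R) / 2 with hb
  have hid : ν * (a * a) - ν * (b * b) = 1 := by
    have h2 := h.two
    rw [ha, hb]; field_simp; linear_combination 4 * hνrR
  have ha0 : a ≠ 0 := fun e => hr2 (by
    rw [ha, div_eq_zero_iff] at e
    linear_combination ν * r * (e.resolve_right h.two) - hνrR)
  have hb0 : b ≠ 0 := fun e => hr1 (by
    rw [hb, div_eq_zero_iff] at e
    linear_combination ν * r * (e.resolve_right h.two) + hνrR)
  obtain ⟨c', d', hd, hc', hind, -, β, hβ, hQ'⟩ := image h hO hcw hw hwq hmn hu ha0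
  have e1 : a * a * Q w * Q u - 1 = ν * (b * b) := by rw [hν] at hid ⊢; linear_combination hid
  have hq' : Q (pr h m c') * Q u = (β * a * b * ν) * (β * a * b * ν) := by
    rw [hQ', ← hudef, e1, hν]; ring
  have hne : Q (pr h m c') ≠ 0 := fun e => by
    rw [e, zero_mul] at hq'
    exact mul_ne_zero (mul_ne_zero (mul_ne_zero hβ ha0) hb0) hν0 (mul_self_eq_zero.1 hq'.symm)
  exact ell h hO hd hne hind (no_sing h hu' (pr_mem h m c') hu hne hq' hU) hF

/-- independent components in one member -/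
theorem good (h : Dec Q D) (hO : Over D H) {i : Fin t} {c d : V} (hcd : In H c d) (hc : c ∉ D i)
    (hd : pr h i d ∉ Submodule.span F ({pr h i c} : Set V)) : eo Q ≤ H := by
  by_cases hu : Q (pr h i c) = 0
  · exact singU h hO hcd hc hu hd
  have hu' := pr_mem h i c
  set u := pr h i c with hudef
  obtain ⟨x, hx, hux, hxq, hdx⟩ := exists_x h hu' hu hd
  obtain ⟨v, hv, huv, hxv, hvq, hy⟩ := exists_v h hu' hu hx hux hxq
  have hW := hcd.rot h hO hx ((D i).add_mem hx hv) hxq hy (by rw [← pr_polar h i c hx]; exact hux)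
    (by rw [← pr_polar h i c ((D i).add_mem hx hv)]; exact polar_perp_add hux huv)
  set W := (⁅rO hxq, rO hy⁆).1 d - d
  have hWi : W ∈ D i := Submodule.span_le.2 (by rintro z (rfl | rfl) <;> assumption) (rot_sub_mem hxq hy)
  have hW0 : W ≠ 0 := fun e => hdx (rot_fix h.two hxq hvq hxv hy (sub_eq_zero.1 e)).1
  obtain ⟨m, hmi, hm⟩ := exists_other_aniso h hcd.sing hu
  by_cases hWq : Q W = 0
  · exact sing_param h hO hW hWi hW0 hWq hc
  · exact one_param h hO hW hWi hWq hmi hm

end Cfsg.Agent.ClassicalMax.DecOrth
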